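/-
Involutions in odd characteristic, part 1: elements permuting the root subgroups, and a single root.

* `Perms n w`: conjugation by `n` permutes the root subgroups as `w`, linearly in the parameters.
* `conj_move`, `conj_split`: an element negating the root `r` with factor `ε` is conjugate to `h_r(γ) n` for
  every `γ ≠ 0`, and to some `n_r(s) n` if `ε` is a square.
* `sl2Hom_injective`: injectivity of SL₂ → GL for a root with an odd pairing, in odd characteristic.
-/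
import Cfsg.Agent.Lib.Chev.SL2Hom
import Cfsg.Agent.Lib.ChevOrder.Weyl
import Cfsg.Agent.Lib.ChevBN.Facts

set_option autoImplicit false

namespace Cfsg.Agent.ChevInvolOdd

open Cfsg.Lie Cfsg.Lie.ChevalleyDatum Cfsg.Agent.Chev Cfsg.Agent.ChevBN Cfsg.Agent.ChevSt
  Cfsg.Agent.Chev.RankOne Matrix
open scoped MatrixGroups

variable {D : ChevalleyDatum} (hD : Good D) {F : Type*} [Field F]

/-- Conjugation by `n` permutes the root subgroups as `w`. -/
def Perms (n : GL D.Idx F) (w : ℕ → ℕ) : Prop :=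
  ∀ q < D.nroots, w q < D.nroots ∧ ∃ c : F, c ≠ 0 ∧ ∀ u : F, n * xg hD F q u * n⁻¹ = xg hD F (w q) (c * u)

include hD

theorem Perms.mul {n m : GL D.Idx F} {v w : ℕ → ℕ} (hn : Perms hD n v) (hm : Perms hD m w) :
    Perms hD (n * m) fun q => v (w q) := by
  intro q hq
  obtain ⟨hw, c, hc, hcu⟩ := hm q hq
  obtain ⟨hv, e, he, heu⟩ := hn (w q) hw
  refine ⟨hv, e * c, mul_ne_zero he hc, fun u => ?_⟩
  rw [show n * m * xg hD F q u * (n * m)⁻¹ = n * (m * xg hD F q u * m⁻¹) * n⁻¹ by group, hcu, heu, mul_assoc e c u]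

theorem Perms.congr {n : GL D.Idx F} {v w : ℕ → ℕ} (h : Perms hD n v) (e : ∀ q < D.nroots, v q = w q) :
    Perms hD n w := fun q hq => by rw [← e q hq]; exact h q hq

theorem Perms.unique {n : GL D.Idx F} {v w : ℕ → ℕ} (h : Perms hD n v) (h' : Perms hD n w) {q : ℕ}
    (hq : q < D.nroots) : v q = w q := by
  obtain ⟨hv, c, hc, hcu⟩ := h q hq
  obtain ⟨hw, e, he, heu⟩ := h' q hq
  exact Cfsg.Agent.ChevOrder.xg_eq_xg hD hv hw (mul_ne_zero hc one_ne_zero) ((hcu 1).symm.trans (heu 1))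

theorem perms_diag {h : GL D.Idx F} (hh : h ∈ D.diagonalSubgroup F) : Perms hD h id := by
  obtain ⟨χ, -, hc⟩ := isToral_of_mem hD hh
  exact fun q hq => ⟨hq, (χ q : F), (χ q).ne_zero, fun u => by rw [hc, mul_inv_cancel_right, id]⟩

theorem perms_ng {r : ℕ} (hr : r < D.nroots) {t : F} (ht : t ≠ 0) : Perms hD (ng hD F r t) (Chev.refl D r) := by
  intro q hq
  refine ⟨refl_lt hD hr hq, (nSign D r q : F) * t ^ (-D.pairing r q), mul_ne_zero ?_ (zpow_ne_zero _ ht), fun u => ?_⟩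
  · rcases (nSign_cases hD hr hq).1 with h | h <;> simp [h]
  · rw [mul_inv_eq_iff_eq_mul]
    apply Units.ext
    rw [Units.val_mul, Units.val_mul, coe_ng, coe_xg, coe_xg, nMat_conj hD hr hq ht]

theorem xg_param_inj {r : ℕ} (hr : r < D.nroots) {t u : F} (e : xg hD F r t = xg hD F r u) : t = u := by
  rw [← mul_inv_eq_one, xg_inv, xg_add hD hr] at e
  have := xg_eq_one hD hr e
  linear_combination this

section Root

variable {r : ℕ} (hr : r < D.nroots)

omit hD in
/-- Conjugation by `[[0, 1], [ε, 0]]`. -/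
def swapE (ε : Fˣ) (A : SL(2, F)) : SL(2, F) :=
  ⟨!![A.1 1 1, A.1 1 0 / (ε : F); (ε : F) * A.1 0 1, A.1 0 0], by
    have h := det_eq A
    rw [Matrix.det_fin_two_of]
    field_simp
    linear_combination h⟩

omit hD in
theorem swapE_mul (ε : Fˣ) (A B : SL(2, F)) : swapE ε (A * B) = swapE ε A * swapE ε B := by
  apply Subtype.ext
  rw [Matrix.SpecialLinearGroup.coe_mul]
  ext i j
  fin_cases i <;> fin_cases j <;>
    simp [swapE, Matrix.SpecialLinearGroup.coe_mul, Matrix.mul_apply, Fin.sum_univ_two] <;> field_simp <;> ring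

omit hD in
/-- Two maps on SL₂ agreeing on the unitriangular generators agree. -/
theorem hom_ext_xy {G : Type*} [Group G] {f g : SL(2, F) →* G} (hx : ∀ t, f (slX t) = g (slX t))
    (hy : ∀ t, f (slY t) = g (slY t)) : f = g := by
  have hne : ∀ A : SL(2, F), A.1 1 0 ≠ 0 → f A = g A := fun A hc => by
    rw [eq_xyx A hc, map_mul, map_mul, map_mul, map_mul, hx, hy, hx]
  ext A
  by_cases hc : A.1 1 0 = 0
  · have h1 : (A * slY 1).1 1 0 ≠ 0 := by rw [mul_slY_c A hc]; exact (ne_zero_of_c A hc).2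
    have := hne _ h1
    rw [map_mul, map_mul, hy] at this
    exact mul_right_cancel this
  · exact hne A hc

omit hD in
theorem mul_swapE_inv (ε : Fˣ) (A : SL(2, F)) :
    (A * swapE ε A⁻¹).1 =
      !![A.1 0 0 * A.1 0 0 - (ε : F) * (A.1 0 1 * A.1 0 1), -(A.1 0 0 * A.1 1 0) / (ε : F) + A.1 0 1 * A.1 1 1;
        A.1 0 0 * A.1 1 0 - (ε : F) * (A.1 0 1 * A.1 1 1), -(A.1 1 0 * A.1 1 0) / (ε : F) + A.1 1 1 * A.1 1 1] := by
  have hi : (A⁻¹ : SL(2, F)).1 = !![A.1 1 1, -A.1 0 1; -A.1 1 0, A.1 0 0] := by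
    rw [← Matrix.adjugate_fin_two]; exact Matrix.SpecialLinearGroup.coe_inv A
  rw [Matrix.SpecialLinearGroup.coe_mul]
  ext i j
  fin_cases i <;> fin_cases j <;> simp [swapE, hi, Matrix.mul_apply, Fin.sum_univ_two] <;> ring

include hr

theorem sl2Hom_conj {n : GL D.Idx F} {ε : Fˣ} (h1 : ∀ u, n * xg hD F r u * n⁻¹ = xg hD F (D.neg r) ((ε : F) * u))
    (h2 : ∀ u, n * xg hD F (D.neg r) u * n⁻¹ = xg hD F r (u / (ε : F))) (A : SL(2, F)) :
    n * sl2Hom hD hr A * n⁻¹ = sl2Hom hD hr (swapE ε A) := by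
  have key : (MulAut.conj n).toMonoidHom.comp (sl2Hom (F := F) hD hr) =
      (sl2Hom (F := F) hD hr).comp (MonoidHom.mk' (swapE ε) (swapE_mul ε)) := by
    refine hom_ext_xy (fun t => ?_) fun t => ?_
    · have e : swapE ε (slX t) = slY ((ε : F) * t) := by
        apply Subtype.ext; ext i j; fin_cases i <;> fin_cases j <;> simp [swapE, slX, slY]
      simp [sl2Hom_slX, h1, e, sl2Hom_slY]
    · have e : swapE ε (slY t) = slX (t / (ε : F)) := by
        apply Subtype.ext; ext i j; fin_cases i <;> fin_cases j <;> simp [swapE, slX, slY]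
      simp [sl2Hom_slY, h2, e, sl2Hom_slX]
  exact DFunLike.congr_fun key A

theorem sl2Hom_mem_group (A : SL(2, F)) : sl2Hom hD hr A ∈ D.group F := by
  have h : (sl2Hom (F := F) hD hr).range ≤ D.group F := by
    rw [sl2Hom_range]
    refine sup_le ?_ ?_ <;> intro g hg <;> obtain ⟨t, rfl⟩ := (mem_rootSubgroup hD _).1 hg <;>
      exact xg_mem_group hD _ _
  exact h ⟨A, rfl⟩

theorem sl2Hom_diag (a : Fˣ) (A : SL(2, F)) (h0 : A.1 0 0 = a) (h1 : A.1 0 1 = 0) (h2 : A.1 1 0 = 0) :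
    sl2Hom hD hr A = hg hD F r (a : F) := by
  show phi hD (r := r) A = _
  rw [phi, h2, phiE_zero, h1, zero_div, xg_zero, mul_one, h0]

theorem sl2Hom_anti (c : F) (hc : c ≠ 0) (A : SL(2, F)) (h0 : A.1 0 0 = 0) (h1 : A.1 1 1 = 0) (h2 : A.1 1 0 = c) :
    sl2Hom hD hr A = ng hD F r (-1 / c) := by
  show phi hD (r := r) A = _
  rw [phi, h2, phiE_ne hD _ _ hc, h0, h1, zero_div, xg_zero, one_mul, mul_one]

/-- An involution negating `r` with factor `ε` is conjugate to `h_r(γ) n` for every `γ ≠ 0`. -/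
theorem conj_move [Fintype F] (hF : ringChar F ≠ 2) {n : GL D.Idx F} (hn : n * n = 1) {ε : Fˣ}
    (h1 : ∀ u, n * xg hD F r u * n⁻¹ = xg hD F (D.neg r) ((ε : F) * u)) (γ : Fˣ) :
    ∃ g ∈ D.group F, g * n * g⁻¹ = hg hD F r (γ : F) * n := by
  have hni : n⁻¹ = n := inv_eq_of_mul_eq_one_left hn
  have h2 : ∀ u, n * xg hD F (D.neg r) u * n⁻¹ = xg hD F r (u / (ε : F)) := by
    intro u
    have e := h1 (u / (ε : F))
    rw [mul_div_cancel₀ u ε.ne_zero] at e
    rw [← e]
    simp only [hni]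
    calc n * (n * xg hD F r (u / (ε : F)) * n) * n = (n * n) * xg hD F r (u / (ε : F)) * (n * n) := by group
      _ = _ := by rw [hn, one_mul, mul_one]
  obtain ⟨a, b, hab⟩ : ∃ a b : F, a ^ 2 - (ε : F) * b ^ 2 = γ := by
    obtain ⟨a, b, hab⟩ := FiniteField.exists_root_sum_quadratic (R := F)
      (f := Polynomial.X ^ 2 - Polynomial.C (γ : F)) (g := Polynomial.C (-(ε : F)) * Polynomial.X ^ 2)
      (Polynomial.degree_X_pow_sub_C (by norm_num) _) (Polynomial.degree_C_mul_X_pow 2 (neg_ne_zero.2 ε.ne_zero))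
      (Nat.odd_iff.1 (Nat.not_even_iff_odd.1 fun he => hF (FiniteField.even_card_iff_char_two.2 (Nat.even_iff.1 he))))
    refine ⟨a, b, ?_⟩
    simp only [Polynomial.eval_sub, Polynomial.eval_pow, Polynomial.eval_X, Polynomial.eval_C,
      Polynomial.eval_mul] at hab
    linear_combination hab
  have hdet : Matrix.det !![a, b; (ε : F) * b / γ, a / γ] = 1 := by
    rw [Matrix.det_fin_two_of]
    field_simp
    linear_combination hab
  set A : SL(2, F) := ⟨!![a, b; (ε : F) * b / γ, a / γ], hdet⟩ with hA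
  refine ⟨sl2Hom hD hr A, sl2Hom_mem_group hD hr A, ?_⟩
  rw [show sl2Hom hD hr A * n * (sl2Hom hD hr A)⁻¹ =
      sl2Hom hD hr A * (n * sl2Hom hD hr A⁻¹ * n⁻¹) * n by rw [map_inv]; group, sl2Hom_conj hD hr h1 h2,
    ← map_mul]
  congr 1
  refine sl2Hom_diag hD hr γ _ ?_ ?_ ?_ <;>
    rw [mul_swapE_inv] <;> simp [hA] <;> field_simp <;> first | ring1 | linear_combination hab | linear_combination (γ : F) * hab

/-- An involution negating `r` with a square factor is conjugate to some `n_r(s) n`. -/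
theorem conj_split (h20 : (2 : F) ≠ 0) {n : GL D.Idx F} (hn : n * n = 1) {ε : Fˣ}
    (h1 : ∀ u, n * xg hD F r u * n⁻¹ = xg hD F (D.neg r) ((ε : F) * u)) {μ : F} (hμ : μ * μ = ε) :
    ∃ g ∈ D.group F, ∃ s : F, s ≠ 0 ∧ g * n * g⁻¹ = ng hD F r s * n := by
  have hni : n⁻¹ = n := inv_eq_of_mul_eq_one_left hn
  have h2 : ∀ u, n * xg hD F (D.neg r) u * n⁻¹ = xg hD F r (u / (ε : F)) := by
    intro u
    have e := h1 (u / (ε : F))
    rw [mul_div_cancel₀ u ε.ne_zero] at e
    rw [← e]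
    simp only [hni]
    calc n * (n * xg hD F r (u / (ε : F)) * n) * n = (n * n) * xg hD F r (u / (ε : F)) * (n * n) := by group
      _ = _ := by rw [hn, one_mul, mul_one]
  have hμ0 : μ ≠ 0 := left_ne_zero_of_mul (hμ ▸ ε.ne_zero)
  have hdet : Matrix.det !![μ, 1; -1 / 2, 1 / (2 * μ)] = 1 := by
    rw [Matrix.det_fin_two_of]; field_simp; ring
  set A : SL(2, F) := ⟨!![μ, 1; -1 / 2, 1 / (2 * μ)], hdet⟩ with hA
  refine ⟨sl2Hom hD hr A, sl2Hom_mem_group hD hr A, -1 / -μ, div_ne_zero (by simp) (neg_ne_zero.2 hμ0), ?_⟩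
  rw [show sl2Hom hD hr A * n * (sl2Hom hD hr A)⁻¹ =
      sl2Hom hD hr A * (n * sl2Hom hD hr A⁻¹ * n⁻¹) * n by rw [map_inv]; group, sl2Hom_conj hD hr h1 h2,
    ← map_mul]
  congr 1
  refine sl2Hom_anti hD hr (-μ) (neg_ne_zero.2 hμ0) _ ?_ ?_ ?_ <;>
    rw [mul_swapE_inv] <;> simp [hA, ← hμ] <;> field_simp <;> ring

theorem sl2Hom_injective (h20 : (2 : F) ≠ 0) {s : ℕ} (hs : s < D.nroots) (hodd : Odd (D.pairing r s)) :
    Function.Injective (sl2Hom (F := F) hD hr) := by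
  rw [injective_iff_map_eq_one]
  intro A hA
  have hn := hD.neg_lt r hr
  by_cases hc : A.1 1 0 = 0
  · obtain ⟨ha, -⟩ := ne_zero_of_c A hc
    have h1 : hg hD F r (A.1 0 0) * xg hD F r (A.1 0 1 / A.1 0 0) = 1 := by
      rw [← phiE_zero hD (r := r) (A.1 0 0) (A.1 0 1) (A.1 1 1), ← hc]
      exact hA
    set w := A.1 0 1 / A.1 0 0 with hw
    have e : hg hD F r (A.1 0 0) = xg hD F r (-w) := by
      rw [← xg_inv, eq_inv_iff_mul_eq_one]; exact h1
    have hsq : A.1 0 0 ^ 2 = 1 := by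
      have hc1 := hg_conj_pos hD hr ha (1 : F)
      rw [e, xg_add hD hr, xg_add hD hr, mul_one] at hc1
      linear_combination -(xg_param_inj hD hr hc1)
    have hw0 : w = 0 := by
      by_contra hw0
      have hc2 := hg_conj_neg hD hr ha (1 : F)
      rw [hsq, inv_one, one_mul, e] at hc2
      -- x_r(-w) commutes with x_{-r}(1): compare x_r(w) conjugated by n_r
      have h3 : hg hD F r (A.1 0 0) = hg hD F r ((A.1 0 0)⁻¹) := by
        congr 1
        exact eq_inv_of_mul_eq_one_left (by rw [← sq, hsq])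
      have h4 : (ng hD F r 1)⁻¹ * hg hD F r (A.1 0 0) * ng hD F r 1 = hg hD F r ((A.1 0 0)⁻¹) := by
        have h5 := ng_mul_hg hD hr (one_ne_zero (α := F)) (inv_ne_zero ha)
        rw [one_div, inv_inv, ng_eq_hg_mul hD r (A.1 0 0)] at h5
        rw [mul_assoc, ← h5]
        group
      rw [← h3, e, ng_conj_self hD hr] at h4
      exact absurd (Cfsg.Agent.ChevOrder.xg_eq_xg hD hn hr (by simpa using hw0) h4) (hD.neg_ne r hr)
    rw [hw0, neg_zero, xg_zero] at e
    have ha1 : A.1 0 0 = 1 := by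
      have hcs : hg hD F r (A.1 0 0) * xg hD F s 1 = xg hD F s (A.1 0 0 ^ D.pairing r s * 1) * hg hD F r (A.1 0 0) :=
        hg_conj hD hr ha 1
      rw [e, one_mul, mul_one, mul_one] at hcs
      have h6 := xg_param_inj hD hs hcs
      rcases mul_self_eq_one_iff.1 (show A.1 0 0 * A.1 0 0 = 1 by rw [← sq]; exact hsq) with h | h
      · exact h
      · rw [h, Odd.neg_one_zpow hodd] at h6
        exact absurd (by linear_combination h6 : (2 : F) = 0) h20
    have hd := det_eq A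
    rw [hc, mul_zero, sub_zero, ha1, one_mul] at hd
    have hb : A.1 0 1 = 0 := by
      rw [hw, ha1, div_one] at hw0; exact hw0
    apply Subtype.ext
    ext i j
    fin_cases i <;> fin_cases j <;> simp [ha1, hb, hc, hd]
  · exfalso
    have h1 : xg hD F r (A.1 0 0 / A.1 1 0) * ng hD F r (-1 / A.1 1 0) * xg hD F r (A.1 1 1 / A.1 1 0) = 1 := by
      rw [← phiE_ne hD (r := r) (A.1 0 0) (A.1 0 1) hc (A.1 1 1)]
      exact hA
    have hne : (-1 / A.1 1 0 : F) ≠ 0 := div_ne_zero (by simp) hc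
    have e : ng hD F r (-1 / A.1 1 0) = xg hD F r (-(A.1 0 0 / A.1 1 0) + -(A.1 1 1 / A.1 1 0)) := by
      rw [← xg_add hD hr, ← xg_inv, ← xg_inv, eq_inv_mul_iff_mul_eq, ← mul_inv_eq_one, inv_inv]
      exact h1
    obtain ⟨-, c, hc0, hcu⟩ := perms_ng hD hr hne r hr
    have h2 := hcu 1
    rw [e, xg_inv, xg_add hD hr, xg_add hD hr] at h2
    have hrefl : Chev.refl D r r = D.neg r := by simp [Chev.refl]
    rw [hrefl] at h2
    exact hD.neg_ne r hr (Cfsg.Agent.ChevOrder.xg_eq_xg hD hr hn (by ring_nf; exact one_ne_zero) h2).symm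

end Root

end Cfsg.Agent.ChevInvolOdd
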