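/-
Involutions in odd characteristic, part 2: reduction to the monomial subgroup.

* `exists_monomial_conj`: over a finite field of odd characteristic every involution of the group is conjugate
  to an involution of the monomial subgroup.
* `exists_perms`, `mem_diag_of_perms`: the permutation of the roots of a monomial element.
* `ng_conj_hg`: the Weyl elements permute the h_r(t).
-/
import Cfsg.Agent.Lib.ChevInvolOdd.RankOne
import Cfsg.Agent.Lib.RGD.NormalForm
import Cfsg.Agent.Lib.Chev.SylowU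

set_option autoImplicit false

namespace Cfsg.Agent.ChevInvolOdd

open Cfsg.Lie Cfsg.Lie.ChevalleyDatum Cfsg.Agent.Chev Cfsg.Agent.ChevBN Cfsg.Agent.ChevSt
  Cfsg.Agent.Chev.RankOne

variable {D : ChevalleyDatum} {M : List (List ℤ)} {d : ℤ} (hD : Good D) (hR : Roots D M d)
  {F : Type*} [Field F]

include hD in
theorem perms_word (l : List (Fin D.rank)) :
    Perms hD ((chevRGD hD hR F).nw l) fun q => l.foldr (fun i p => wN D i.val p) q := by
  induction l with
  | nil => exact (perms_diag hD (one_mem _)).congr hD fun q _ => rfl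
  | cons i l ih =>
    exact ((perms_ng hD (hD.simple_lt i.val i.isLt) one_ne_zero).mul hD ih).congr hD fun q _ => rfl

include hD hR

theorem exists_perms {n : GL D.Idx F} (hn : n ∈ (chevRGD hD hR F).N) :
    ∃ l : List (Fin D.rank), Perms hD n fun q => l.foldr (fun i p => wN D i.val p) q := by
  obtain ⟨h, hh, l, rfl⟩ := (chevRGD hD hR F).mem_N_iff.1 hn
  exact ⟨l, ((perms_diag hD hh).mul hD (perms_word hD hR l)).congr hD fun q _ => rfl⟩

theorem mem_diag_of_perms {n : GL D.Idx F} (hn : n ∈ (chevRGD hD hR F).N) (hp : Perms hD n id) :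
    n ∈ D.diagonalSubgroup F := by
  set R := chevRGD hD hR F
  obtain ⟨h, hh, l, rfl⟩ := R.mem_N_iff.1 hn
  have hl : Perms hD (R.nw l) id := by
    have := (perms_diag hD (inv_mem hh : h⁻¹ ∈ D.diagonalSubgroup F)).mul hD hp
    rw [inv_mul_cancel_left] at this
    exact this
  refine mul_mem hh (R.mem_H_of_pos fun r hr => ?_)
  have e : (R.ww l r).val = r.val := by
    have hw : ∀ (l : List (Fin D.rank)), (R.ww l r).val = l.foldr (fun i p => wN D i.val p) r.val := by
      intro l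
      induction l with
      | nil => rfl
      | cons i l ih => rw [RGD.RootData.ww_cons, List.foldr_cons, ← ih]; rfl
    rw [hw]
    exact (perms_word hD hR l).unique hD hl r.isLt
  show D.IsPosRoot (R.ww l r).val
  rw [e]
  exact hr

variable [Fintype F]

theorem exists_monomial_conj (hF : ringChar F ≠ 2) {t : GL D.Idx F} (ht : t ∈ D.group F) (ht2 : t * t = 1) :
    ∃ g ∈ D.group F, g * t * g⁻¹ ∈ (chevRGD hD hR F).N ∧ g * t * g⁻¹ * (g * t * g⁻¹) = 1 := by
  set R := chevRGD hD hR F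
  rw [← chev_G hD hR] at ht ⊢
  obtain ⟨b, hb, l, u, hu, rfl⟩ := R.exists_normalForm ht
  obtain ⟨v, hv, h, hh, rfl⟩ := R.exists_B hb
  have huU : u ∈ R.Upos := R.Uminus_le_Upos l hu
  have huG : u ∈ R.G := R.B_le_G (R.Upos_le_B huU)
  set n := h * R.nw l with hn
  have hnN : n ∈ R.N := mul_mem (R.H_le_N hh) (R.nw_mem_N l)
  set w := u * v with hw
  have hwU : w ∈ R.Upos := R.Upos.mul_mem huU hv
  have hsq : w * n * (w * n) = 1 := by
    calc w * n * (w * n) = u * (v * h * R.nw l * u * (v * h * R.nw l * u)) * u⁻¹ := by rw [hw, hn]; group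
      _ = 1 := by rw [ht2]; group
  have hninv : n = w⁻¹ * n⁻¹ * w⁻¹ := by
    have e : n * w * n = w⁻¹ := by
      rw [eq_inv_iff_mul_eq_one]
      calc n * w * n * w = w⁻¹ * (w * n * (w * n)) * w := by group
        _ = 1 := by rw [hsq]; group
    calc n = w⁻¹ * n⁻¹ * (n * w * n) := by group
      _ = _ := by rw [e]
  have hk : n⁻¹ * n⁻¹ ∈ R.H :=
    R.mem_H_of_eq hnN (inv_mem hnN) (b₁ := 1) (b₂ := 1) (one_mem _) (one_mem _)
      (inv_mem (R.Upos_le_B hwU)) (inv_mem (R.Upos_le_B hwU)) (by rw [one_mul, mul_one]; exact hninv)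
  have hconj : n * w * n⁻¹ = w⁻¹ * (n⁻¹ * n⁻¹) := by
    calc n * w * n⁻¹ = w⁻¹ * (w * n * (w * n)) * n⁻¹ * n⁻¹ := by group
      _ = _ := by rw [hsq]; group
  obtain ⟨p, hp⟩ := CharP.exists F
  haveI := hp
  haveI : Fact p.Prime := ⟨CharP.char_is_prime F p⟩
  have hP := BT.isPGroup_pos (F := F) p hD
  rw [← chev_Upos hD hR] at hP
  obtain ⟨m, hm⟩ := hP ⟨w, hwU⟩
  have hwm : w ^ p ^ m = 1 := congrArg Subtype.val hm
  have hU' : n * w * n⁻¹ ∈ D.posUnipotent F := by
    refine BT.le_pos_of_le_borel p hD (Q := Subgroup.zpowers (n * w * n⁻¹)) ?_ ?_ (Subgroup.mem_zpowers _)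
    · rintro ⟨x, k, rfl⟩
      refine ⟨m, Subtype.ext ?_⟩
      show ((n * w * n⁻¹) ^ k) ^ p ^ m = 1
      rw [← zpow_natCast, ← zpow_mul, mul_comm, zpow_mul, zpow_natCast, conj_pow, hwm, mul_one, mul_inv_cancel,
        one_zpow]
    · rw [Subgroup.zpowers_le, hconj, ← chev_B hD hR]
      exact R.B.mul_mem (R.B.inv_mem (R.Upos_le_B hwU)) (R.H_le_B hk)
  have hn2 : n⁻¹ * n⁻¹ = 1 := by
    rw [← Subgroup.mem_bot, ← R.U_inf_H]
    refine ⟨?_, hk⟩
    show n⁻¹ * n⁻¹ ∈ R.Upos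
    rw [show n⁻¹ * n⁻¹ = w * (n * w * n⁻¹) by rw [hconj]; group]
    exact R.Upos.mul_mem hwU (by rw [chev_Upos hD hR]; exact hU')
  rw [hn2, mul_one] at hconj
  have hnn : n * n = 1 := by
    have := congrArg (·⁻¹) hn2
    simpa using this
  have hodd : Odd (p ^ m) := by
    refine Odd.pow ((Fact.out : p.Prime).odd_of_ne_two ?_)
    rintro rfl
    exact hF (ringChar.eq F 2)
  obtain ⟨j, hj⟩ := hodd
  set s := w ^ (j + 1) with hs
  have hss : s * s = w := by
    rw [hs, ← pow_add, show j + 1 + (j + 1) = p ^ m + 1 by omega, pow_succ, hwm, one_mul]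
  have hns : n * s * n⁻¹ = s⁻¹ := by rw [hs, ← conj_pow, hconj, inv_pow]
  have hsG : s ∈ R.G := R.B_le_G (R.Upos_le_B (R.Upos.pow_mem hwU _))
  refine ⟨s⁻¹ * u, mul_mem (inv_mem hsG) huG, ?_, ?_⟩ <;>
    rw [show s⁻¹ * u * (v * h * R.nw l * u) * (s⁻¹ * u)⁻¹ = s⁻¹ * (w * n) * s by rw [hw, hn]; group, ← hss,
      show s⁻¹ * (s * s * n) * s = s * (n * s * n⁻¹) * n by group, hns, mul_inv_cancel, one_mul]
  · exact hnN
  · exact hnn

omit [Fintype F] in
theorem ng_conj_hg {i r : ℕ} (hi : i < D.rank) (hr : r < D.nroots) {t : F} (ht : t ≠ 0) :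
    ng hD F (D.simple i) 1 * hg hD F r t * (ng hD F (D.simple i) 1)⁻¹ = hg hD F (wN D i r) t := by
  have hσ : (nSign D (D.simple i) r : F) = 1 ∨ (nSign D (D.simple i) r : F) = -1 := by
    rcases (nSign_cases hD (hD.simple_lt i hi) hr).1 with h | h <;> simp [h]
  rw [hg, show ∀ g a b : GL D.Idx F, g * (a * b) * g⁻¹ = g * a * g⁻¹ * (g * b * g⁻¹) from fun g a b => by group,
    ng_conj_ng hD hR hi hr, ng_conj_ng hD hR hi hr,
    ng_mul_ng_sign hD (r := wN D i r) (refl_lt hD (hD.simple_lt i hi) hr) ht hσ]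

end Cfsg.Agent.ChevInvolOdd
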